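import Groth.Agent.AbVar.K504.Inv
import Groth.Agent.Nrm16.K136.UnivOmega

/-!
# Brackets of derivations, linearity of vertical derivations, coefficients in a frame (job 444)
-/

set_option autoImplicit false

universe u

open CategoryTheory CategoryTheory.Limits Opposite TopologicalSpace AlgebraicGeometry

namespace K759.PartB

open K504 K504.GDMap K504.AltSh K504.Star K504.Inv

variable {X Y S : Scheme.{u}} {f : X ⟶ S}

section values

/-- the values of a derivation `O_X → O_X` -/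
noncomputable def vl (E : OmegaSh.Der f (Coh.structureModule X)) (V : X.Opens) : Γ(X, V) →+ Γ(X, V) :=
  (OmegaSh.fnSect X V).comp (E.app V)

theorem ap_dv' (E : OmegaSh.Der f (Coh.structureModule X)) (V : X.Opens) (x : Γ(X, V)) :
    ap (dv E) (op V) x = vl E V x := rfl

theorem vl_mul (E : OmegaSh.Der f (Coh.structureModule X)) (V : X.Opens) (x y : Γ(X, V)) :
    vl E V (x * y) = x * vl E V y + y * vl E V x :=
  E.d_mul (X := op V) x y

theorem vl_map (E : OmegaSh.Der f (Coh.structureModule X)) {V W : X.Opens} (i : W ⟶ V) (x : Γ(X, V)) :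
    vl E W (X.presheaf.map i.op x) = X.presheaf.map i.op (vl E V x) :=
  E.d_map i.op x

theorem vl_app (E : OmegaSh.Der f (Coh.structureModule X)) (V : S.Opens) (c : Γ(S, V)) :
    vl E (f ⁻¹ᵁ V) (f.app V c) = 0 :=
  E.d_app (X := op V) c

/-- a derivation `O_X → O_X` from its values -/
noncomputable def mkDer (v : ∀ V : X.Opens, Γ(X, V) →+ Γ(X, V))
    (hmul : ∀ (V : X.Opens) (x y : Γ(X, V)), v V (x * y) = x * v V y + y * v V x)
    (hmap : ∀ (V W : X.Opens) (i : W ⟶ V) (x : Γ(X, V)), v W (X.presheaf.map i.op x) = X.presheaf.map i.op (v V x))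
    (happ : ∀ (V : S.Opens) (c : Γ(S, V)), v (f ⁻¹ᵁ V) (f.app V c) = 0) :
    OmegaSh.Der f (Coh.structureModule X) where
  d {V} := (OmegaSh.strSect X V.unop).comp (v V.unop)
  d_mul {V} x y := hmul V.unop x y
  d_map {V W} i x := hmap V.unop W.unop i.unop x
  d_app {V} c := happ V.unop c

end values

theorem exists_bracket (E E' : OmegaSh.Der f (Coh.structureModule X)) :
    ∃ B : OmegaSh.Der f (Coh.structureModule X), dv B = dv E ≫ dv E' - dv E' ≫ dv E := by
  refine ⟨mkDer (fun V => (vl E' V).comp (vl E V) - (vl E V).comp (vl E' V)) ?_ ?_ ?_, ?_⟩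
  · intro V x y
    simp only [AddMonoidHom.sub_apply, AddMonoidHom.comp_apply, vl_mul, map_add]
    ring
  · intro V W i x
    simp only [AddMonoidHom.sub_apply, AddMonoidHom.comp_apply, vl_map, map_sub]
  · intro V c
    simp only [AddMonoidHom.sub_apply, AddMonoidHom.comp_apply, vl_app, map_zero, sub_self]
  · refine hom_ext' fun V x => ?_
    rfl

theorem pLin_of_zero (p : Y ⟶ X) (E : OmegaSh.Der (p ≫ f) (Coh.structureModule Y))
    (h : co p ≫ (CohTop.push (X := Y.toTopCat) (Y := X.toTopCat) p.base).map (dv E) = 0) : PLin p (dv E) := by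
  intro U V hV b x
  have h0 : vl E (p ⁻¹ᵁ U) (p.app U b) = 0 := congrArg (fun t => ap t (op U) b) h
  have h1 : vl E V (p.appLE U V hV b) = 0 := by
    have h2 : p.appLE U V hV b = Y.presheaf.map (homOfLE hV).op (p.app U b) := by
      rw [Scheme.Hom.appLE]
      rfl
    rw [h2, vl_map, h0, map_zero]
  change vl E V (p.appLE U V hV b * x) = p.appLE U V hV b * vl E V x
  rw [vl_mul, h1, mul_zero, add_zero]

section coeff

variable (h : Y ⟶ X) (E : OmegaSh.Der (h ≫ f) (Coh.structureModule Y))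

/-- a section of `h_* O_Y` over `V`, as a function on `h⁻¹ V` -/
def pfn (V : X.Opens) : Γ((Scheme.Modules.pushforward h).obj (Coh.structureModule Y), V) →+ Γ(Y, h ⁻¹ᵁ V) where
  toFun x := x
  map_zero' := rfl
  map_add' _ _ := rfl

/-- a function on `h⁻¹ V`, as a section of `h_* O_Y` over `V` -/
def pst (V : X.Opens) : Γ(Y, h ⁻¹ᵁ V) →+ Γ((Scheme.Modules.pushforward h).obj (Coh.structureModule Y), V) where
  toFun x := x
  map_zero' := rfl
  map_add' _ _ := rfl

theorem pfn_smul (V : X.Opens) (a : Γ(X, V)) (m : Γ((Scheme.Modules.pushforward h).obj (Coh.structureModule Y), V)) :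
    pfn h V (a • m) = h.app V a * pfn h V m := rfl

theorem pst_mul (V : X.Opens) (a : Γ(X, V)) (m : Γ(Y, h ⁻¹ᵁ V)) :
    pst h V (h.app V a * m) = a • pst h V m := rfl

theorem app_app_base (V : S.Opens) (c : Γ(S, V)) :
    h.app (f ⁻¹ᵁ V) (f.app V c) = (h ≫ f).app V c := by
  rw [Scheme.Hom.comp_app]
  rfl

/-- `s ↦ E (h^# s)` -/
noncomputable def pd : OmegaSh.Der f ((Scheme.Modules.pushforward h).obj (Coh.structureModule Y)) where
  d {V} := ((pst h V.unop).comp (vl E (h ⁻¹ᵁ V.unop))).comp (h.app V.unop).hom.toAddMonoidHom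
  d_mul {V} x y := by
    change pst h V.unop (vl E (h ⁻¹ᵁ V.unop) (h.app V.unop (x * y))) = 
      (show Γ(X, V.unop) from x) • pst h V.unop (vl E (h ⁻¹ᵁ V.unop) (h.app V.unop y)) +
       (show Γ(X, V.unop) from y) • pst h V.unop (vl E (h ⁻¹ᵁ V.unop) (h.app V.unop x))
    rw [map_mul, vl_mul, map_add, pst_mul, pst_mul]
  d_map {V W} i x := by
    change vl E (h ⁻¹ᵁ W.unop) (h.app W.unop (X.presheaf.map i x)) =
      Y.presheaf.map ((Opens.map h.base).op.map i) (vl E (h ⁻¹ᵁ V.unop) (h.app V.unop x))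
    have h1 : h.app W.unop (X.presheaf.map i x) = Y.presheaf.map ((Opens.map h.base).op.map i) (h.app V.unop x) :=
      ConcreteCategory.congr_hom (h.naturality i) x
    rw [h1]
    exact E.d_map ((Opens.map h.base).op.map i) _
  d_app {V} c := by
    change vl E (h ⁻¹ᵁ (f ⁻¹ᵁ V.unop)) (h.app (f ⁻¹ᵁ V.unop) (f.app V.unop c)) = 0
    rw [app_app_base]
    exact vl_app E V.unop c

theorem pd_app (V : X.Opens) (x : Γ(X, V)) :
    pfn h V ((pd h E).app V x) = vl E (h ⁻¹ᵁ V) (h.app V x) := rfl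

variable [QuasiSeparated f] {g : ℕ} (F : Frame f g)

/-- the coordinates of a section of `Ω` -/
noncomputable def cd (V : X.Opens) (l : Fin g) : Γ(Omega.sheaf f, V) →+ Γ(X, V) :=
  (OmegaSh.fnSect X V).comp ((F.D l).app V).hom

theorem cd_smul (V : X.Opens) (l : Fin g) (a : Γ(X, V)) (m : Γ(Omega.sheaf f, V)) :
    cd F V l (a • m) = a * cd F V l m :=
  congrArg (OmegaSh.fnSect X V) (Scheme.Modules.Hom.app_smul (F.D l) a m)

theorem cd_map (V : X.Opens) (l : Fin g) (m : Γ(Omega.sheaf f, ⊤)) :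
    cd F V l ((Omega.sheaf f).presheaf.map (homOfLE le_top : V ⟶ ⊤).op m) =
      X.presheaf.map (homOfLE le_top : V ⟶ ⊤).op (cd F ⊤ l m) :=
  ConcreteCategory.congr_hom ((Scheme.Modules.Hom.mapPresheaf (F.D l)).naturality (homOfLE le_top : V ⟶ ⊤).op) m

theorem cd_ext (V : X.Opens) {m m' : Γ(Omega.sheaf f, V)} (hm : ∀ l, cd F V l m = cd F V l m') : m = m' :=
  (F.bij V).1 (funext hm)

/-- the dual basis -/
theorem exists_basis : ∃ e : Fin g → Γ(Omega.sheaf f, ⊤), ∀ l j, cd F ⊤ j (e l) = if j = l then 1 else 0 := by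
  choose e he using fun l : Fin g => (F.bij ⊤).2 (fun j => if j = l then (1 : Γ(X, ⊤)) else 0)
  exact ⟨e, fun l j => congrFun (he l) j⟩

theorem eq_sum {e : Fin g → Γ(Omega.sheaf f, ⊤)} (he : ∀ l j, cd F ⊤ j (e l) = if j = l then 1 else 0)
    (V : X.Opens) (m : Γ(Omega.sheaf f, V)) :
    m = ∑ l, cd F V l m • (Omega.sheaf f).presheaf.map (homOfLE le_top : V ⟶ ⊤).op (e l) := by
  refine cd_ext F V fun j => ?_
  rw [map_sum]
  simp only [cd_smul, cd_map, he]
  rw [Finset.sum_eq_single j]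
  · rw [if_pos rfl, map_one, mul_one]
  · intro l _ hl
    rw [if_neg (Ne.symm hl), map_zero, mul_zero]
  · intro hj
    exact absurd (Finset.mem_univ _) hj

theorem exists_coeff (F : Frame f g) (h : Y ⟶ X)
    (E : OmegaSh.Der (h ≫ f) (Coh.structureModule Y)) :
    ∃ γ : Fin g → Γ(Y, ⊤), ∀ (V : X.Opens) (x : Γ(X, V)),
      (show Γ(Y, h ⁻¹ᵁ V) from ap (dv E) (op (h ⁻¹ᵁ V)) (h.app V x)) =
        ∑ l, Y.presheaf.map (homOfLE le_top : h ⁻¹ᵁ V ⟶ ⊤).op (γ l) *
          h.app V (show Γ(X, V) from ap (F.del l) (op V) x) := by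
  obtain ⟨α, hα, -⟩ := K136.UnivOmega.isUniversal_dOmega f _ (pd h E)
  obtain ⟨e, he⟩ := exists_basis F
  refine ⟨fun l => pfn h ⊤ (α.app ⊤ (e l)), fun V x => ?_⟩
  have h1 : pfn h V (α.app V ((OmegaSh.dOmega f).app V x)) = vl E (h ⁻¹ᵁ V) (h.app V x) :=
    congrArg (fun D : OmegaSh.Der f ((Scheme.Modules.pushforward h).obj (Coh.structureModule Y)) =>
      pfn h V (D.app V x)) hα
  change vl E (h ⁻¹ᵁ V) (h.app V x) = _
  rw [← h1]
  conv_lhs => rw [eq_sum F he V ((OmegaSh.dOmega f).app V x)]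
  rw [map_sum, map_sum]
  refine Finset.sum_congr rfl fun l _ => ?_
  rw [Scheme.Modules.Hom.app_smul, pfn_smul, mul_comm]
  refine congrArg₂ (fun a b => a * b) ?_ rfl
  exact ConcreteCategory.congr_hom ((Scheme.Modules.Hom.mapPresheaf α).naturality (homOfLE le_top : V ⟶ ⊤).op) (e l)

end coeff

end K759.PartB
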