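import Mathlib.RingTheory.DedekindDomain.Ideal.Lemmas

/-!
# Ideals of finite products of Dedekind domains and duality with respect to `n` (node Z2 of LAT, S17997)
-/

set_option autoImplicit false

namespace K759.FrobPi

/-- the component of an ideal of a product -/
def cmp {J : Type} [DecidableEq J] {D : J → Type} [∀ j, CommRing (D j)] (I : Ideal (∀ j, D j)) (j : J) :
    Ideal (D j) where
  carrier := {y | Pi.single j y ∈ I}
  zero_mem' := by
    change Pi.single j (0 : D j) ∈ I
    rw [Pi.single_zero]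
    exact zero_mem _
  add_mem' {x y} hx hy := by
    change Pi.single j (x + y) ∈ I
    rw [Pi.single_add]
    exact add_mem hx hy
  smul_mem' c x hx := by
    change Pi.single j (c * x) ∈ I
    rw [Pi.single_mul]
    exact I.mul_mem_left _ hx

variable {J : Type} [Fintype J] [DecidableEq J] {D : J → Type} [∀ j, CommRing (D j)]

omit [Fintype J] in
theorem mem_cmp {I : Ideal (∀ j, D j)} {j : J} {y : D j} : y ∈ cmp I j ↔ Pi.single j y ∈ I := Iff.rfl

omit [Fintype J] in
theorem single_mul_eq (j : J) (r : D j) (x : ∀ j, D j) : Pi.single j r * x = Pi.single j (r * x j) := by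
  funext i
  by_cases h : i = j
  · subst h
    simp
  · simp [h]

omit [Fintype J] in
theorem apply_mem_cmp {I : Ideal (∀ j, D j)} {x : ∀ j, D j} (hx : x ∈ I) (j : J) : x j ∈ cmp I j := by
  rw [mem_cmp]
  have h := I.mul_mem_left (Pi.single j 1) hx
  rwa [single_mul_eq, one_mul] at h

theorem mem_iff {I : Ideal (∀ j, D j)} {x : ∀ j, D j} : x ∈ I ↔ ∀ j, x j ∈ cmp I j := by
  refine ⟨fun hx j => apply_mem_cmp hx j, fun h => ?_⟩
  have h1 : x = ∑ j, Pi.single j (x j) := (Finset.univ_sum_single x).symm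
  rw [h1]
  exact Submodule.sum_mem _ fun j _ => h j

theorem frob_pi [∀ j, IsDedekindDomain (D j)] (n : ℕ) (hn : ∀ j, (n : D j) ≠ 0) (I I' : Ideal (∀ j, D j))
    (hnI : (n : ∀ j, D j) ∈ I')
    (h : ∀ r : ∀ j, D j, (∀ x ∈ I', r * x ∈ Ideal.span {(n : ∀ j, D j)}) →
      ∀ x ∈ I, r * x ∈ Ideal.span {(n : ∀ j, D j)}) : I ≤ I' := by
  suffices H : ∀ j, cmp I j ≤ cmp I' j by
    intro x hx
    rw [mem_iff]
    exact fun j => H j (apply_mem_cmp hx j)
  intro j
  have h1 : (n : D j) ∈ cmp I' j := by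
    have := apply_mem_cmp hnI j
    rwa [Pi.natCast_apply] at this
  obtain ⟨K, hK⟩ : cmp I' j ∣ Ideal.span {(n : D j)} := by
    rw [Ideal.dvd_span_singleton]
    exact h1
  have hK0 : K ≠ 0 := by
    rintro rfl
    rw [mul_zero, Ideal.zero_eq_bot, Ideal.span_singleton_eq_bot] at hK
    exact hn j hK
  have h2 : K * cmp I j ≤ Ideal.span {(n : D j)} := by
    rw [Ideal.mul_le]
    intro r hr y hy
    have h3 := h (Pi.single j r) (fun x hx => by
      have h4 : r * x j ∈ Ideal.span {(n : D j)} := by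
        rw [hK, mul_comm r]
        exact Ideal.mul_mem_mul (apply_mem_cmp hx j) hr
      obtain ⟨c, hc⟩ := Ideal.mem_span_singleton.1 h4
      rw [single_mul_eq, hc, Ideal.mem_span_singleton]
      refine ⟨Pi.single j c, ?_⟩
      rw [mul_comm (n : ∀ j, D j), single_mul_eq, Pi.natCast_apply, mul_comm]) _ hy
    rw [single_mul_eq, Pi.single_eq_same, Ideal.mem_span_singleton] at h3
    obtain ⟨c, hc⟩ := h3
    rw [Ideal.mem_span_singleton]
    refine ⟨c j, ?_⟩
    have h5 := congrFun hc j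
    rwa [Pi.single_eq_same, Pi.mul_apply, Pi.natCast_apply] at h5
  rw [hK, ← Ideal.dvd_iff_le, mul_comm K] at h2
  rw [← Ideal.dvd_iff_le]
  exact (mul_dvd_mul_iff_right hK0).1 h2

end K759.FrobPi
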